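import Cfsg.Agent.H192.Ht.Tools
import Cfsg.Agent.H392.HT.SixL34

/-!
# S3512: the row `L / Z(L) = L₃(4)`, `p = 3` (helper333)

* `three_dvd`: an element of order 7 (`7 ∤ h`, `p ≠ 7`) forces `3 ∣ n`;
* `kill`, `kill'`: `(n, q, m) = (4, 27, 7280)`.
-/

set_option autoImplicit false
set_option linter.unusedSectionVars false

universe u v w

namespace Cfsg.Agent.H333.HT.LThreeFour

open Module Cfsg.Agent.H392.HT
open Cfsg.Agent.H828.HT hiding ev
open Cfsg.Agent.H742.HT Cfsg.Agent.H192.Ht Cfsg.Agent.H952.F4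
open Cfsg.Agent.H333.QS6

/-! ### `PSL₃(4)` -/

section data

variable {F : Type v} [Field F]

/-- an element of order 7 -/
def zm : Matrix.SpecialLinearGroup (Fin 3) F := ⟨!![0, 0, 1; 1, 0, 1; 0, 1, 0], by simp [Matrix.det_fin_three]⟩

/-- an element of order 3 normalising `⟨zm⟩` -/
def fm (h2 : (2 : F) = 0) : Matrix.SpecialLinearGroup (Fin 3) F := ⟨!![1, 0, 0; 0, 0, 1; 0, 1, 1], by
  simp [Matrix.det_fin_three]
  linear_combination -h2⟩

theorem zm_seven (h2 : (2 : F) = 0) : (zm : Matrix.SpecialLinearGroup (Fin 3) F) ^ 7 = 1 := by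
  have h1 : (!![0, 0, 1; 1, 0, 1; 0, 1, 0] : Matrix (Fin 3) (Fin 3) F) * !![0, 0, 1; 1, 0, 1; 0, 1, 0] =
      !![0, 1, 0; 0, 1, 1; 1, 0, 1] := by
    ext i j
    fin_cases i <;> fin_cases j <;> simp [Matrix.mul_apply, Fin.sum_univ_three]
  have h3 : (zm : Matrix.SpecialLinearGroup (Fin 3) F) ^ 7 = (zm * zm) * (zm * zm) * (zm * zm) * zm := by
    simp only [pow_succ, pow_zero, one_mul, mul_assoc]
  rw [h3]
  apply Subtype.ext
  rw [Matrix.SpecialLinearGroup.coe_mul, Matrix.SpecialLinearGroup.coe_mul, Matrix.SpecialLinearGroup.coe_mul,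
    Matrix.SpecialLinearGroup.coe_mul]
  change (!![0, 0, 1; 1, 0, 1; 0, 1, 0] * !![0, 0, 1; 1, 0, 1; 0, 1, 0]) *
    (!![0, 0, 1; 1, 0, 1; 0, 1, 0] * !![0, 0, 1; 1, 0, 1; 0, 1, 0]) *
    (!![0, 0, 1; 1, 0, 1; 0, 1, 0] * !![0, 0, 1; 1, 0, 1; 0, 1, 0]) *
    !![0, 0, 1; 1, 0, 1; 0, 1, 0] = (1 : Matrix (Fin 3) (Fin 3) F)
  rw [h1]
  ext i j
  fin_cases i <;> fin_cases j <;> simp [Matrix.mul_apply, Fin.sum_univ_three] <;> grind

theorem fm_zm (h2 : (2 : F) = 0) : fm h2 * zm = zm ^ 2 * fm h2 := by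
  apply Subtype.ext
  rw [pow_two, Matrix.SpecialLinearGroup.coe_mul, Matrix.SpecialLinearGroup.coe_mul, Matrix.SpecialLinearGroup.coe_mul]
  change !![1, 0, 0; 0, 0, 1; 0, 1, 1] * !![0, 0, 1; 1, 0, 1; 0, 1, 0] =
    !![0, 0, 1; 1, 0, 1; 0, 1, 0] * !![0, 0, 1; 1, 0, 1; 0, 1, 0] * (!![1, 0, 0; 0, 0, 1; 0, 1, 1] : Matrix _ _ F)
  ext i j
  fin_cases i <;> fin_cases j <;> simp [Matrix.mul_apply, Fin.sum_univ_three]
  grind

theorem zm_not_center : (zm : Matrix.SpecialLinearGroup (Fin 3) F) ∉ Subgroup.center _ := by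
  intro h
  let l : Matrix.SpecialLinearGroup (Fin 3) F := ⟨!![1, 1, 0; 0, 1, 0; 0, 0, 1], by simp [Matrix.det_fin_three]⟩
  have h1 := Subgroup.mem_center_iff.1 h l
  have h2 : (!![1, 1, 0; 0, 1, 0; 0, 0, 1] * !![0, 0, 1; 1, 0, 1; 0, 1, 0] : Matrix (Fin 3) (Fin 3) F) =
      !![0, 0, 1; 1, 0, 1; 0, 1, 0] * !![1, 1, 0; 0, 1, 0; 0, 0, 1] := congrArg Subtype.val h1
  have h3 := congrFun (congrFun h2 0) 0
  simp [Matrix.mul_apply, Fin.sum_univ_three] at h3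

end data

/-- the Frobenius group `7 : 3` in `PSL₃(4)` -/
theorem facts {S : Type v} [Group S] (hS : Cfsg.Agent.H912.Bd.IsL 3 4 S) :
    ∃ z t : S, z ^ 7 = 1 ∧ z ≠ 1 ∧ t * z * t⁻¹ = z ^ 2 := by
  obtain ⟨F, _, _, hF, ⟨e⟩⟩ := hS
  have h2 := two_eq hF
  let π : Matrix.SpecialLinearGroup (Fin 3) F →* Matrix.ProjectiveSpecialLinearGroup (Fin 3) F := QuotientGroup.mk' _
  let φ : Matrix.SpecialLinearGroup (Fin 3) F →* S := e.symm.toMonoidHom.comp π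
  refine ⟨φ zm, φ (fm h2), ?_, ?_, ?_⟩
  · rw [← map_pow, zm_seven h2, map_one]
  · intro h1
    apply zm_not_center (F := F)
    rw [← QuotientGroup.eq_one_iff]
    exact (MulEquiv.map_eq_one_iff e.symm).1 h1
  · rw [mul_inv_eq_iff_eq_mul, ← map_pow, ← map_mul, ← map_mul, fm_zm]

theorem ord_2_7 : orderOf ((2 : ℕ) : ZMod 7) = 3 := by
  rw [orderOf_eq_iff (by norm_num)]
  refine ⟨by rw [Nat.cast_ofNat]; decide, ?_⟩
  intro m hm hm0
  rw [Nat.cast_ofNat]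
  interval_cases m <;> decide

variable {p : ℕ} [Fact p.Prime] {K : Type w} [Field K] {V : Type u} [AddCommGroup V] [Module (ZMod p) V] [Finite V]
    [Module K V] {G L : Subgroup (V ≃ₗ[ZMod p] V)} {h : ℕ}

/-- `7 ∤ h` forces `3 ∣ n` -/
theorem three_dvd (H : QL p K V G L h) (hS : Cfsg.Agent.H912.Bd.IsL 3 4 (L ⧸ Subgroup.center L)) (h7 : ¬ 7 ∣ h)
    (hp : p ≠ 7) : 3 ∣ finrank K V := by
  have hfin : Finite L := finite_L
  have hf7 : Fact (Nat.Prime 7) := ⟨by norm_num⟩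
  obtain ⟨hc, -, -⟩ := l34 hS
  obtain ⟨z, t, hz7, hz1, hrel⟩ := facts hS
  have hcen : ¬ 7 ∣ Nat.card (Subgroup.center L) := Lift.not_dvd_center H.perf (by rw [hc]; norm_num)
  obtain ⟨y, hy7, rfl⟩ := Lift.exists_lift (by norm_num) hcen hz7
  obtain ⟨g, rfl⟩ := QuotientGroup.mk_surjective t
  have hyg := Lift.lift_rel (by norm_num) hcen hy7 hrel
  have hy1 : y ≠ 1 := by
    rintro rfl
    exact hz1 rfl
  refine dvd_finrank H (by norm_num) hp.symm hy7 ?_ hyg ord_2_7 (by norm_num)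
  intro v hv
  exact fpf_of_not_dvd H.half h7 (H.le y.2) (congrArg Subtype.val hy7) (fun h2 => hy1 (Subtype.ext h2)) hv

/-- **S3512, `L₃(4)`, `(n, q, m) = (4, 27, 7280)`.** -/
theorem kill (H : QL p K V G L h) (hS : Cfsg.Agent.H912.Bd.IsL 3 4 (L ⧸ Subgroup.center L)) {m : ℕ}
    (hm : m * h = Nat.card G) (hn : finrank K V = 4) (hq : Nat.card K = 27) (hm0 : m = 7280) : False := by
  have h1 := QN.card_G_dvd H
  obtain ⟨-, hA, -⟩ := l34 hS
  rw [← hm, hm0, hA, hq] at h1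
  have h2 : h ∣ 864 := by
    have h3 : 7280 * h ∣ 7280 * 864 := by
      refine h1.trans (dvd_of_eq (by norm_num))
    exact Nat.dvd_of_mul_dvd_mul_left (by norm_num) h3
  have h7 : ¬ 7 ∣ h := fun h3 => absurd (h3.trans h2) (by norm_num)
  have hp : p ≠ 7 := by
    rintro rfl
    obtain ⟨k, hk, hk0⟩ := QN.exists_card H
    have h3 : 7 ∣ Nat.card K := by rw [hk]; exact dvd_pow_self 7 hk0.ne'
    rw [hq] at h3
    norm_num at h3
  have h3 := three_dvd H hS h7 hp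
  rw [hn] at h3
  norm_num at h3

/-- the same for `QSP` -/
theorem kill' (H : Cfsg.Agent.H19.HT.QSP p K V G L h) (hS : Cfsg.Agent.H912.Bd.IsL 3 4 (L ⧸ Subgroup.center L)) {m : ℕ}
    (hm : m * h = Nat.card G) (hn : finrank K V = 4) (hq : Nat.card K = 27) (hm0 : m = 7280) : False :=
  kill (toQL H) hS hm hn hq hm0

end Cfsg.Agent.H333.HT.LThreeFour
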